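import Groth.Agent.Lib.Altitude.Chains
import Groth.Agent.Lib.Cube.HeightOne
import Groth.Agent.S7117
import Mathlib

/-!
# Reduced principal quotients in normal local domains

In a catenary Noetherian normal local domain, every nonzero radical ideal contains a nonzero `f` with
`R/(f)` reduced.  If `f` vanishes to order at least two along `p`, then `f + x·h` (with `h` of order one
at `p`, high order at the other components, `x` in a fixed system of parameters ideal `Y`) keeps all
components and acquires a new one, while the number of components stays bounded by `length R/((f)+Y)`.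
-/

set_option autoImplicit false
universe u

namespace GrothLib.Bertini16

open IsLocalRing

variable {R : Type u} [CommRing R]

theorem dvd_of_forall_height_one [IsDomain R] [IsNoetherianRing R] [IsIntegrallyClosed R] {f z : R}
    (hf : f ≠ 0) (h : ∀ p : Ideal R, p.IsPrime → p.height = 1 → ∃ s ∉ p, f ∣ s * z) : f ∣ z := by
  by_contra hz
  have hne : Ideal.Quotient.mk (Ideal.span {f}) z ≠ 0 := fun e =>
    hz (Ideal.mem_span_singleton.1 (Ideal.Quotient.eq_zero_iff_mem.1 e))
  obtain ⟨p, hp, hle⟩ := exists_le_isAssociatedPrime_of_isNoetherianRing R _ hne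
  haveI := hp.isPrime
  obtain ⟨s, hs, hfs⟩ := h p inferInstance (NormalSerre.height_eq_one_of_mem_associatedPrimes hf hp)
  refine hs (hle ?_)
  rw [Submodule.mem_colon_singleton, Submodule.mem_bot]
  show s • Ideal.Quotient.mk _ z = 0
  rw [Algebra.smul_def, Ideal.Quotient.algebraMap_eq, ← map_mul, Ideal.Quotient.eq_zero_iff_mem]
  exact Ideal.mem_span_singleton.2 hfs

theorem height_eq_one_of_mem_min [IsDomain R] [IsNoetherianRing R] {f : R} (hf : f ≠ 0)
    {p : Ideal R} (hp : p ∈ (Ideal.span {f}).minimalPrimes) : p.height = 1 := by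
  haveI := hp.1.1
  haveI : (Ideal.span {f}).IsPrincipal := ⟨f, rfl⟩
  refine le_antisymm (Ideal.height_le_one_of_isPrincipal_of_mem_minimalPrimes _ _ hp) ?_
  rw [Order.one_le_iff_pos]
  refine lt_of_le_of_lt (zero_le) (lt_of_eq_of_lt (Ideal.height_bot (R := R)).symm
    (Ideal.height_strict_mono_of_isPrime_of_isPrime (bot_lt_iff_ne_bot.2 fun h => hf ?_)))
  have : f ∈ p := hp.1.2 (Ideal.mem_span_singleton_self f)
  rwa [h] at this

theorem mem_min_of_height_one [IsDomain R] [IsNoetherianRing R] {f : R} (hf : f ≠ 0) {q : Ideal R}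
    [q.IsPrime] (hq : q.height = 1) (hfq : f ∈ q) : q ∈ (Ideal.span {f}).minimalPrimes := by
  obtain ⟨p, hp, hle⟩ := Ideal.exists_minimalPrimes_le ((Ideal.span_singleton_le_iff_mem q).2 hfq)
  haveI := hp.1.1
  rcases hle.lt_or_eq with h | h
  · have := Ideal.height_strict_mono_of_isPrime_of_isPrime h
    rw [height_eq_one_of_mem_min hf hp, hq] at this
    exact absurd this (lt_irrefl _)
  · exact h ▸ hp

/-- If `f` has order one along all its components, `R/(f)` is reduced. -/
theorem isReduced_of_simple [IsDomain R] [IsNoetherianRing R] [IsIntegrallyClosed R] {f : R} (hf : f ≠ 0)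
    (h : ∀ q : Ideal R, q.IsPrime → q.height = 1 → f ∈ q → ∀ z ∈ q, ∃ s ∉ q, f ∣ s * z) :
    IsReduced (R ⧸ Ideal.span {f}) := by
  refine ⟨fun z hz => ?_⟩
  obtain ⟨n, hn⟩ := hz
  obtain ⟨z, rfl⟩ := Ideal.Quotient.mk_surjective z
  rw [← map_pow, Ideal.Quotient.eq_zero_iff_mem, Ideal.mem_span_singleton] at hn
  rw [Ideal.Quotient.eq_zero_iff_mem, Ideal.mem_span_singleton]
  refine dvd_of_forall_height_one hf fun q hq hq1 => ?_
  by_cases hfq : f ∈ q
  · obtain ⟨c, hc⟩ := hn
    exact h q hq hq1 hfq z (hq.mem_of_pow_mem n (hc ▸ Ideal.mul_mem_right c q hfq))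
  · exact ⟨f, hfq, dvd_mul_right f z⟩

variable [IsLocalRing R] [IsDomain R] [IsNoetherianRing R] [IsIntegrallyClosed R]

/-- Height additivity at height one primes (true for catenary domains and in dimension two). -/
def HeightOneAdd (R : Type u) [CommRing R] [IsLocalRing R] : Prop :=
  ∀ P : Ideal R, P.IsPrime → P.height = 1 →
    (maximalIdeal R).height = 1 + ((maximalIdeal R).map (Ideal.Quotient.mk P)).height

theorem heightOneAdd_of_isCatenary (hc : CAlg.IsCatenary R) : HeightOneAdd R := fun P _ hP => by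
  rw [← hP]
  exact Altitude.height_eq_add_of_isCatenary hc P (maximalIdeal R) (IsLocalRing.le_maximalIdeal (Ideal.IsPrime.ne_top inferInstance))

theorem heightOneAdd_of_dim_two (hd : ringKrullDim R = 2) : HeightOneAdd R := fun P _ hP => by
  have hm : (maximalIdeal R).height = 2 := WithBot.coe_injective (maximalIdeal_height_eq_ringKrullDim.trans hd)
  have hPm : P ≤ maximalIdeal R := IsLocalRing.le_maximalIdeal (Ideal.IsPrime.ne_top inferInstance)
  haveI := Ideal.isPrime_map_quotientMk_of_isPrime hPm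
  have hle : P.height + ((maximalIdeal R).map (Ideal.Quotient.mk P)).height ≤ (maximalIdeal R).height := by
    haveI : IsLocalRing (R ⧸ P) := IsLocalRing.of_surjective' _ Ideal.Quotient.mk_surjective
    have h := GrothLib.AffDom.height_add_ringKrullDim_quotient_le P
    have hmax : (maximalIdeal R).map (Ideal.Quotient.mk P) = maximalIdeal (R ⧸ P) :=
      IsLocalRing.eq_maximalIdeal (Ideal.IsMaximal.map_of_surjective_of_ker_le Ideal.Quotient.mk_surjective (by rwa [Ideal.mk_ker]))
    rw [← maximalIdeal_height_eq_ringKrullDim, ← maximalIdeal_height_eq_ringKrullDim, ← hmax, ← WithBot.coe_add] at h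
    exact WithBot.coe_le_coe.1 h
  have hne : ((maximalIdeal R).map (Ideal.Quotient.mk P)).height ≠ 0 := by
    intro h0
    have hbot : (maximalIdeal R).map (Ideal.Quotient.mk P) = ⊥ := by
      by_contra hne'
      have h' := Ideal.height_strict_mono_of_isPrime_of_isPrime (bot_lt_iff_ne_bot.2 hne')
      rw [h0] at h'
      exact not_lt_zero h'
    have : maximalIdeal R ≤ P := by simpa [Ideal.map_eq_bot_iff_le_ker] using hbot
    rw [le_antisymm hPm this, hm] at hP
    exact absurd hP (by norm_num)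
  rw [hP, hm] at hle
  rw [hm]
  revert hle hne
  generalize ((maximalIdeal R).map (Ideal.Quotient.mk P)).height = x
  cases x using ENat.recTopCoe with
  | top => simp
  | coe n => intro h1 h2; norm_cast at *; omega

/-- `Y` together with `f` is `𝔪`-primary, but `Y` has too few generators to be. -/
theorem notMem_of_lt_dim {d e : ℕ} (hd : ringKrullDim R = d) (g : Fin e → R)
    (hg : ∀ i, g i ∈ maximalIdeal R) (he : e < d) {f : R}
    (hrad : maximalIdeal R ≤ (Ideal.span {f} ⊔ Ideal.span (Set.range g)).radical) :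
    f ∉ Ideal.span (Set.range g) := by
  intro hfY
  rw [sup_eq_right.2 ((Ideal.span_singleton_le_iff_mem _).2 hfY)] at hrad
  have hd' : ((maximalIdeal R).height : WithBot ℕ∞) = d := maximalIdeal_height_eq_ringKrullDim.trans hd
  by_cases hY : Ideal.span (Set.range g) ≤ maximalIdeal R
  · have hmin : maximalIdeal R ∈ (Ideal.span (Set.range g)).minimalPrimes :=
      ⟨⟨inferInstance, hY⟩, fun q hq _ => hrad.trans (hq.1.radical_le_iff.2 hq.2)⟩
    classical
    have h1 := Ideal.height_le_card_of_mem_minimalPrimes_span_finset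
      (s := Finset.univ.image g) (p := maximalIdeal R) (by simpa using hmin)
    have h2 : (maximalIdeal R).height ≤ (e : ℕ∞) := h1.trans (by
      exact_mod_cast (Finset.card_image_le.trans (by simp)))
    have h3 : ((maximalIdeal R).height : WithBot ℕ∞) ≤ (e : ℕ∞) := WithBot.coe_le_coe.2 h2
    rw [hd'] at h3
    have : d ≤ e := by exact_mod_cast h3
    omega
  · exact hY (Ideal.span_le.2 fun x hx => by obtain ⟨i, rfl⟩ := hx; exact hg i)

theorem ncard_min_le (hc : HeightOneAdd R) {d e : ℕ} (hd : ringKrullDim R = d) (hde : e + 1 = d)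
    (g : Fin e → R) (hg : ∀ i, g i ∈ maximalIdeal R) {f : R} (hf : f ≠ 0) (hfm : f ∈ maximalIdeal R)
    (hrad : maximalIdeal R ≤ (Ideal.span {f} ⊔ Ideal.span (Set.range g)).radical) :
    ((Ideal.span {f}).minimalPrimes.ncard : ℕ∞) ≤
      Module.length R (R ⧸ (Ideal.span {f} ⊔ Ideal.span (Set.range g))) := by
  set I := Ideal.span {f} with hI
  have hIm : I ≤ maximalIdeal R := (Ideal.span_singleton_le_iff_mem _).2 hfm
  haveI : Nontrivial (R ⧸ I) := Ideal.Quotient.nontrivial_iff.2 fun h =>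
    (maximalIdeal.isMaximal R).ne_top (top_le_iff.1 (h ▸ hIm))
  haveI : IsLocalRing (R ⧸ I) := IsLocalRing.of_surjective' _ Ideal.Quotient.mk_surjective
  have hdim : ringKrullDim (R ⧸ I) = e := by
    have h := ringKrullDim_quotient_span_singleton_succ_eq_ringKrullDim (x := f)
      (fun a b hab => mul_left_cancel₀ hf hab) (by simpa [mem_maximalIdeal, mem_nonunits_iff] using hfm)
    rw [hd, ← hde, Nat.cast_add, Nat.cast_one] at h
    exact (ENat.WithBot.add_one_cancel).1 h
  let π := Ideal.Quotient.mk I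
  have hmax : (maximalIdeal R).map π = maximalIdeal (R ⧸ I) := by
    refine IsLocalRing.eq_maximalIdeal (Ideal.IsMaximal.map_of_surjective_of_ker_le Ideal.Quotient.mk_surjective ?_)
    rwa [Ideal.mk_ker]
  have hspan : Ideal.span (Set.range (π ∘ g)) = (Ideal.span (Set.range g)).map π := by
    rw [Ideal.map_span, Set.range_comp]
  have key := Groth.Agent.S7117.result (R ⧸ I) e hdim (π ∘ g)
    (fun i => hmax ▸ Ideal.mem_map_of_mem π (hg i)) (by
      rw [← hmax, hspan]
      refine (Ideal.map_mono hrad).trans ((Ideal.map_radical_le π).trans (Ideal.radical_mono ?_))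
      rw [Ideal.map_sup, Ideal.map_quotient_self, bot_sup_eq])
  have hall : {p : Ideal (R ⧸ I) | p ∈ minimalPrimes (R ⧸ I) ∧ ringKrullDim ((R ⧸ I) ⧸ p) = e} =
      minimalPrimes (R ⧸ I) := by
    ext p
    refine ⟨fun h => h.1, fun hp => ⟨hp, ?_⟩⟩
    haveI := hp.1.1
    have hP : p.comap π ∈ I.minimalPrimes := by
      rw [Ideal.minimalPrimes_eq_comap]
      exact ⟨p, hp, rfl⟩
    haveI : (p.comap π).IsPrime := hP.1.1
    have h1 := hc (p.comap π) inferInstance (height_eq_one_of_mem_min hf hP)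
    haveI : IsLocalRing (R ⧸ p.comap π) := IsLocalRing.of_surjective' _ Ideal.Quotient.mk_surjective
    rw [IsLocalRing.eq_maximalIdeal (Ideal.IsMaximal.map_of_surjective_of_ker_le (f := Ideal.Quotient.mk (p.comap π))
      Ideal.Quotient.mk_surjective (by rw [Ideal.mk_ker]; exact IsLocalRing.le_maximalIdeal (Ideal.IsPrime.ne_top inferInstance)))] at h1
    have h2 : ((maximalIdeal R).height : WithBot ℕ∞) = 1 + ringKrullDim (R ⧸ p.comap π) := by
      rw [h1, WithBot.coe_add, maximalIdeal_height_eq_ringKrullDim, WithBot.coe_one]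
    rw [maximalIdeal_height_eq_ringKrullDim, hd, ← hde, Nat.cast_add, Nat.cast_one, add_comm (1 : WithBot ℕ∞)] at h2
    let ε : (R ⧸ p.comap π) ≃+* (R ⧸ I) ⧸ p :=
      (Ideal.quotEquivOfEq (show p.comap π = RingHom.ker ((Ideal.Quotient.mk p).comp π) by
        rw [← RingHom.comap_ker, Ideal.mk_ker])).trans
        (RingHom.quotientKerEquivOfSurjective (Ideal.Quotient.mk_surjective.comp Ideal.Quotient.mk_surjective))
    rw [← ringKrullDim_eq_of_ringEquiv ε]
    exact (ENat.WithBot.add_one_cancel).1 h2.symm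
  rw [hall] at key
  rw [Ideal.minimalPrimes_eq_comap, Set.ncard_image_of_injective _
    (Ideal.comap_injective_of_surjective _ Ideal.Quotient.mk_surjective)]
  refine key.trans (le_of_eq ?_)
  rw [hspan, ← Module.length_eq_of_surjective (S := R) (R := R ⧸ I)
    (M := (R ⧸ I) ⧸ (Ideal.span (Set.range g)).map π) Ideal.Quotient.mk_surjective]
  exact (DoubleQuot.quotQuotEquivQuotSupₐ R I (Ideal.span (Set.range g))).toLinearEquiv.length_eq

/-- Replace a multiple component by a simple one, gaining a component. -/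
theorem exists_more_components {d e : ℕ} (hd : ringKrullDim R = d) (he : e < d)
    (g : Fin e → R) (hg : ∀ i, g i ∈ maximalIdeal R) (h2 : 2 ≤ d) {J : Ideal R} (hJ : J.IsRadical) {f : R} (hf : f ≠ 0)
    (hfJ : f ∈ J) (hfm : f ∈ maximalIdeal R)
    (hrad : maximalIdeal R ≤ (Ideal.span {f} ⊔ Ideal.span (Set.range g)).radical)
    (hnr : ¬ IsReduced (R ⧸ Ideal.span {f})) :
    ∃ f' : R, f' ≠ 0 ∧ f' ∈ J ∧ f' ∈ maximalIdeal R ∧
      Ideal.span {f'} ⊔ Ideal.span (Set.range g) = Ideal.span {f} ⊔ Ideal.span (Set.range g) ∧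
      (Ideal.span {f}).minimalPrimes ⊂ (Ideal.span {f'}).minimalPrimes := by
  classical
  set Y := Ideal.span (Set.range g) with hY
  have hYm : Y ≤ maximalIdeal R := Ideal.span_le.2 (by rintro _ ⟨i, rfl⟩; exact hg i)
  have hfY : f ∉ Y := notMem_of_lt_dim hd g hg he hrad
  set S := (Ideal.span {f}).minimalPrimes with hS
  have hSfin : S.Finite := Ideal.finite_minimalPrimes_of_isNoetherianRing R _
  have hS1 : ∀ q ∈ S, q.IsPrime ∧ q.height = 1 ∧ f ∈ q := fun q hq =>
    ⟨hq.1.1, height_eq_one_of_mem_min hf hq, hq.1.2 (Ideal.mem_span_singleton_self f)⟩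
  have hmax : ∀ q ∈ S, ¬ maximalIdeal R ≤ q := by
    intro q hq hle
    haveI := (hS1 q hq).1
    have hqm : q = maximalIdeal R := le_antisymm (IsLocalRing.le_maximalIdeal (Ideal.IsPrime.ne_top inferInstance)) hle
    have h1 : ((maximalIdeal R).height : WithBot ℕ∞) = d := maximalIdeal_height_eq_ringKrullDim.trans hd
    rw [← hqm, (hS1 q hq).2.1] at h1
    have : (1 : ℕ) = d := by exact_mod_cast h1
    omega
  obtain ⟨x, hxY, hx⟩ : ∃ x ∈ Y, ∀ q ∈ S, x ∉ q := by
    by_contra hcon
    push Not at hcon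
    obtain ⟨q, hq, hle⟩ := (Ideal.subset_union_prime (s := hSfin.toFinset) (f := id) ⊥ ⊥
      (fun i hi _ _ => (hS1 i (hSfin.mem_toFinset.1 hi)).1)).1 fun x hx => by
        obtain ⟨q, hq, hxq⟩ := hcon x hx
        exact Set.mem_biUnion (hSfin.mem_toFinset.2 hq) hxq
    haveI := (hS1 q (hSfin.mem_toFinset.1 hq)).1
    exact hmax q (hSfin.mem_toFinset.1 hq) (hrad.trans ((Ideal.IsPrime.radical_le_iff inferInstance).2
      (sup_le ((Ideal.span_singleton_le_iff_mem _).2 (hS1 q (hSfin.mem_toFinset.1 hq)).2.2) hle)))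
  -- a multiple component
  obtain ⟨p, hp, hp1, hfp, hsimple⟩ : ∃ q : Ideal R, q.IsPrime ∧ q.height = 1 ∧ f ∈ q ∧
      ¬ ∀ z ∈ q, ∃ s ∉ q, f ∣ s * z := by
    by_contra hcon
    push Not at hcon
    exact hnr (isReduced_of_simple hf fun q hq hq1 hfq z hz => hcon q hq hq1 hfq z hz)
  have hpS : p ∈ S := mem_min_of_height_one hf hp1 hfp
  obtain ⟨π, hπp, hπ0, hπN, hπy⟩ := Cube.exists_uniformiser hp1
  have hsq : ∃ s ∉ p, π * π ∣ s * f := by
    obtain ⟨N, u, v, hu, hv, huv⟩ := hπN f hf
    match N with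
    | 0 =>
      have h0 : v * π ^ 0 ∈ p := huv ▸ Ideal.mul_mem_left p u hfp
      exact absurd (by simpa using h0) hv
    | 1 =>
      refine absurd (fun z hz => ?_) hsimple
      obtain ⟨u', y, hu', hy⟩ := hπy z hz
      refine ⟨v * u', hp.mul_notMem hv hu', ⟨u * y, ?_⟩⟩
      linear_combination v * hy - y * huv
    | N + 2 => exact ⟨u, hu, ⟨v * π ^ N, by rw [huv]; ring⟩⟩
  obtain ⟨s, hs, t, hst⟩ := hsq
  -- orders at the other components
  have hdata : ∀ q ∈ S, q ≠ p → ∃ (π' : R) (N : ℕ) (u v c : R), π' ∈ q ∧ u ∉ q ∧ v ∉ q ∧ c ∈ q ∧ c ∉ p ∧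
      u * f = v * π' ^ N ∧ ∃ u' y : R, u' ∉ q ∧ u' * c = π' * y := by
    intro q hq hne
    obtain ⟨hqp, hq1, hfq⟩ := hS1 q hq
    obtain ⟨π', hπ', -, hN, hy⟩ := Cube.exists_uniformiser hq1
    obtain ⟨N, u, v, hu, hv, huv⟩ := hN f hf
    obtain ⟨c, hcq, hcp⟩ := Set.not_subset.1 fun hle : (q : Set R) ⊆ p => hne
      (le_antisymm hle (hpS.2 ⟨hqp, (Ideal.span_singleton_le_iff_mem _).2 hfq⟩ hle))
    obtain ⟨u', y, hu', hyc⟩ := hy c hcq
    exact ⟨π', N, u, v, c, hπ', hu, hv, hcq, hcp, huv, u', y, hu', hyc⟩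
  choose π' N uq vq cq hπ' huq hvq hcq hcqp huvq uq' yq huq' hyq using hdata
  let T := hSfin.toFinset.erase p
  have hT : ∀ q ∈ T, q ∈ S ∧ q ≠ p := fun q hq =>
    ⟨hSfin.mem_toFinset.1 (Finset.mem_of_mem_erase hq), Finset.ne_of_mem_erase hq⟩
  let b : R := ∏ q ∈ T.attach, cq q.1 (hT q.1 q.2).1 (hT q.1 q.2).2 ^ (N q.1 (hT q.1 q.2).1 (hT q.1 q.2).2 + 1)
  have hbp : b ∉ p := fun h => by
    obtain ⟨q, -, hq⟩ := hp.prod_mem_iff.1 h
    exact hcqp _ _ _ (hp.mem_of_pow_mem _ hq)
  let h := x * π * b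
  have hhq : ∀ q ∈ S, h ∈ q := by
    intro q hq
    by_cases hqp : q = p
    · subst hqp
      exact Ideal.mul_mem_right _ _ (Ideal.mul_mem_left _ _ hπp)
    · refine Ideal.mul_mem_left _ _ ?_
      have hqT : q ∈ T := Finset.mem_erase.2 ⟨hqp, hSfin.mem_toFinset.2 hq⟩
      refine Ideal.mem_of_dvd _ (Finset.dvd_prod_of_mem _ (Finset.mem_attach T ⟨q, hqT⟩)) ?_
      exact Ideal.pow_mem_of_mem _ (hcq _ _ _) _ (Nat.succ_pos _)
  have hhrad : h ∈ (Ideal.span {f}).radical := by
    rw [← Ideal.sInf_minimalPrimes]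
    exact Submodule.mem_sInf.2 hhq
  have hhJ : h ∈ J := hJ.radical ▸ Ideal.radical_mono ((Ideal.span_singleton_le_iff_mem _).2 hfJ) hhrad
  have hhY : h ∈ Y := Ideal.mul_mem_right _ _ (Ideal.mul_mem_right _ _ hxY)
  set f' := f + h with hf'
  have hf'Y : f' ∉ Y := fun hc' => hfY (by simpa [hf'] using Y.sub_mem hc' hhY)
  have hf'0 : f' ≠ 0 := fun e0 => hf'Y (e0 ▸ Y.zero_mem)
  have hfq' : ∀ q ∈ S, f' ∈ q := fun q hq => add_mem (hS1 q hq).2.2 (hhq q hq)
  have hsub : S ⊆ (Ideal.span {f'}).minimalPrimes := fun q hq =>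
    haveI := (hS1 q hq).1
    mem_min_of_height_one hf'0 (hS1 q hq).2.1 (hfq' q hq)
  have hCeq : Ideal.span {f'} ⊔ Y = Ideal.span {f} ⊔ Y := by
    apply le_antisymm <;> refine sup_le ((Ideal.span_singleton_le_iff_mem _).2 ?_) le_sup_right
    · exact add_mem (Ideal.mem_sup_left (Ideal.mem_span_singleton_self f)) (Ideal.mem_sup_right hhY)
    · have : f = f' - h := by rw [hf']; ring
      rw [this]
      exact sub_mem (Ideal.mem_sup_left (Ideal.mem_span_singleton_self f')) (Ideal.mem_sup_right hhY)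
  refine ⟨f', hf'0, add_mem hfJ hhJ, add_mem hfm (hYm hhY), hCeq,
    Set.ssubset_iff_subset_ne.2 ⟨hsub, fun heq => ?_⟩⟩
  -- all components equal: then `f'` divides `f`
  have hf's : s * f' = π * (π * t + s * x * b) := by
    rw [hf']
    linear_combination hst
  have hw : π * t + s * x * b ∉ p := fun hmem =>
    (hp.mul_notMem (hp.mul_notMem hs (hx p hpS)) hbp)
      (((Submodule.add_mem_iff_right p (Ideal.mul_mem_right _ _ hπp)).1 hmem))
  have hdvd : f' ∣ f := by
    refine dvd_of_forall_height_one hf'0 fun q hqp hq1 => ?_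
    by_cases hf'q : f' ∈ q
    · have hqS : q ∈ S := heq.symm ▸ mem_min_of_height_one hf'0 hq1 hf'q
      by_cases hqe : q = p
      · subst hqe
        obtain ⟨u, y, hu, hy⟩ := hπy f hfp
        refine ⟨(π * t + s * x * b) * u, hp.mul_notMem hw hu, ⟨s * y, ?_⟩⟩
        linear_combination (π * t + s * x * b) * hy - y * hf's
      · have hqT : q ∈ T := Finset.mem_erase.2 ⟨hqe, hSfin.mem_toFinset.2 hqS⟩
        obtain ⟨r, hr⟩ : cq q hqS hqe ^ (N q hqS hqe + 1) ∣ h :=
          Dvd.dvd.mul_left (Finset.dvd_prod_of_mem _ (Finset.mem_attach T ⟨q, hqT⟩)) _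
        set π₁ := π' q hqS hqe
        set n := N q hqS hqe
        set u := uq q hqS hqe
        set v := vq q hqS hqe
        set c := cq q hqS hqe
        set u' := uq' q hqS hqe
        set y := yq q hqS hqe
        have e1 : u * f = v * π₁ ^ n := huvq q hqS hqe
        have e2 : u' ^ (n + 1) * c ^ (n + 1) = π₁ ^ (n + 1) * y ^ (n + 1) := by
          rw [← mul_pow, ← mul_pow, hyq q hqS hqe]
        let w := u' ^ (n + 1) * v + u * π₁ * y ^ (n + 1) * r
        have hwq : w ∉ q := fun hmem =>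
          (hqp.mul_notMem (fun hp' => huq' q hqS hqe (hqp.mem_of_pow_mem _ hp')) (hvq q hqS hqe))
            ((Submodule.add_mem_iff_left q (Ideal.mul_mem_right _ _ (Ideal.mul_mem_right _ _
              (Ideal.mul_mem_left _ _ (hπ' q hqS hqe))))).1 hmem)
        have e3 : u * u' ^ (n + 1) * f' = π₁ ^ n * w := by
          rw [hf', hr]
          linear_combination u' ^ (n + 1) * e1 + u * r * e2
        refine ⟨w * u, hqp.mul_notMem hwq (huq q hqS hqe), ⟨v * u * u' ^ (n + 1), ?_⟩⟩
        linear_combination w * e1 - v * e3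
    · exact ⟨f', hf'q, dvd_mul_right f' f⟩
  obtain ⟨τ, hτ⟩ := hdvd
  by_cases hτu : IsUnit τ
  · -- then `f'` would also be multiple at `p`
    obtain ⟨τ', hτ'⟩ := hτu.exists_left_inv
    have e1 : s * s * f' = π * π * (t * τ' * s) := by
      have : f' = τ' * f := by rw [hτ]; linear_combination -f' * hτ'
      rw [this]
      linear_combination (τ' * s) * hst
    have e2 : s * (π * t + s * x * b) = π * (t * τ' * s) :=
      mul_left_cancel₀ hπ0 (by linear_combination e1 - s * hf's)
    exact hp.mul_notMem hs hw (e2 ▸ Ideal.mul_mem_right _ _ hπp)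
  · have hτm : τ ∈ maximalIdeal R := hτu
    have hu : IsUnit (1 - τ) := IsLocalRing.isUnit_one_sub_self_of_mem_nonunits τ hτm
    refine hf'Y ((Ideal.unit_mul_mem_iff_mem Y hu).1 ?_)
    have : (1 - τ) * f' = h := by linear_combination hτ + hf'
    rwa [this]

/-- The main theorem. -/
theorem exists_mem_isReduced_quotient (hc : HeightOneAdd R) (J : Ideal R) (hJ : J.IsRadical)
    (hJ0 : J ≠ ⊥) : ∃ f ∈ J, f ≠ 0 ∧ IsReduced (R ⧸ Ideal.span {f}) := by
  classical
  by_cases hJt : J = ⊤
  · refine ⟨1, hJt ▸ trivial, one_ne_zero, ?_⟩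
    haveI : Subsingleton (R ⧸ Ideal.span {(1 : R)}) := Ideal.Quotient.subsingleton_iff.2 Ideal.span_singleton_one
    infer_instance
  have hJm : J ≤ maximalIdeal R := IsLocalRing.le_maximalIdeal hJt
  obtain ⟨f₀, hf₀J, hf₀⟩ := Submodule.exists_mem_ne_zero_of_ne_bot hJ0
  obtain ⟨d, hd⟩ : ∃ d : ℕ, ringKrullDim R = d := by
    obtain ⟨n, hn⟩ := ENat.ne_top_iff_exists.1 (Ideal.height_ne_top (I := maximalIdeal R) Ideal.IsPrime.ne_top')
    exact ⟨n, by rw [← maximalIdeal_height_eq_ringKrullDim, ← hn]; rfl⟩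
  have hd' : ((maximalIdeal R).height : WithBot ℕ∞) = d := maximalIdeal_height_eq_ringKrullDim.trans hd
  have hd1 : 1 ≤ d := by
    have hlt : (⊥ : Ideal R) < maximalIdeal R :=
      bot_lt_iff_ne_bot.2 fun h => hJ0 (le_bot_iff.1 (h ▸ hJm))
    have h := Ideal.height_strict_mono_of_isPrime_of_isPrime hlt
    rw [Ideal.height_bot] at h
    by_contra hcon
    have : d = 0 := by omega
    subst this
    rw [show (maximalIdeal R).height = 0 by exact_mod_cast hd'] at h
    exact lt_irrefl _ h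
  rcases hd1.eq_or_lt with h1 | h2
  · -- dimension one: `J` is the maximal ideal
    subst h1
    have hm1 : (maximalIdeal R).height = 1 := by exact_mod_cast hd'
    obtain ⟨π, hπ, hπ0, -, hy⟩ := Cube.exists_uniformiser hm1
    have hm : maximalIdeal R = Ideal.span {π} := by
      refine le_antisymm (fun z hz => ?_) ((Ideal.span_singleton_le_iff_mem _).2 hπ)
      obtain ⟨u, y, hu, huz⟩ := hy z hz
      exact Ideal.mem_span_singleton.2 ((IsLocalRing.notMem_maximalIdeal.1 hu).dvd_mul_left.1 ⟨y, huz⟩)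
    have hJeq : maximalIdeal R ≤ J := by
      rw [← hJ.radical, Ideal.radical_eq_sInf]
      refine le_sInf fun P hP => ?_
      obtain ⟨hJP, hPp⟩ := hP
      by_contra hne
      have h1 := Ideal.height_strict_mono_of_isPrime_of_isPrime (lt_of_le_not_ge (IsLocalRing.le_maximalIdeal hPp.ne_top) hne)
      have h2 := Ideal.height_strict_mono_of_isPrime_of_isPrime
        (bot_lt_iff_ne_bot.2 fun h : P = ⊥ => hJ0 (le_bot_iff.1 (h ▸ hJP)))
      rw [hm1, Order.lt_one_iff] at h1
      rw [h1] at h2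
      exact not_lt_zero h2
    refine ⟨π, hJeq hπ, hπ0, ?_⟩
    haveI : (Ideal.span {π}).IsPrime := hm ▸ inferInstance
    infer_instance
  -- system of parameters for `R/(f₀)`
  obtain ⟨e, rfl⟩ : ∃ e, d = e + 1 := ⟨d - 1, by omega⟩
  set I := Ideal.span {f₀}
  have hIm : I ≤ maximalIdeal R := (Ideal.span_singleton_le_iff_mem _).2 (hJm hf₀J)
  haveI : Nontrivial (R ⧸ I) := Ideal.Quotient.nontrivial_iff.2 fun h =>
    (maximalIdeal.isMaximal R).ne_top (top_le_iff.1 (h ▸ hIm))
  haveI : IsLocalRing (R ⧸ I) := IsLocalRing.of_surjective' _ Ideal.Quotient.mk_surjective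
  have hdim : ringKrullDim (R ⧸ I) = e := by
    have h := ringKrullDim_quotient_span_singleton_succ_eq_ringKrullDim (x := f₀)
      (fun a b hab => mul_left_cancel₀ hf₀ hab) (by simpa [mem_maximalIdeal, mem_nonunits_iff] using hJm hf₀J)
    rw [hd, Nat.cast_add, Nat.cast_one] at h
    exact (ENat.WithBot.add_one_cancel).1 h
  obtain ⟨s, hs, hcard⟩ := Ideal.exists_finset_card_eq_height_of_isNoetherianRing (maximalIdeal (R ⧸ I))
  have hse : s.card = e := by
    have := (maximalIdeal_height_eq_ringKrullDim (R := R ⧸ I)).trans hdim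
    rw [← hcard] at this
    exact_mod_cast this
  let g : Fin e → R := fun i => Function.surjInv Ideal.Quotient.mk_surjective ((s.equivFinOfCardEq hse).symm i).1
  have hgs : ∀ i, Ideal.Quotient.mk I (g i) = ((s.equivFinOfCardEq hse).symm i).1 := fun i =>
    Function.surjInv_eq _ _
  have hgm : ∀ i, g i ∈ maximalIdeal R := by
    intro i
    rw [IsLocalRing.mem_maximalIdeal, mem_nonunits_iff]
    intro hu
    have hmem : Ideal.Quotient.mk I (g i) ∈ maximalIdeal (R ⧸ I) := by
      rw [hgs]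
      exact hs.1.2 (Ideal.subset_span ((s.equivFinOfCardEq hse).symm i).2)
    exact hmem (hu.map _)
  have hspan : (Ideal.span (Set.range g)).map (Ideal.Quotient.mk I) = Ideal.span (s : Set (R ⧸ I)) := by
    rw [Ideal.map_span, ← Set.range_comp]
    congr 1
    ext z
    simp only [Set.mem_range, Function.comp_apply, hgs, Finset.mem_coe]
    exact ⟨fun ⟨i, hi⟩ => hi ▸ ((s.equivFinOfCardEq hse).symm i).2,
      fun hz => ⟨s.equivFinOfCardEq hse ⟨z, hz⟩, by simp⟩⟩
  have hrad₀ : maximalIdeal R ≤ (I ⊔ Ideal.span (Set.range g)).radical := by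
    rw [Ideal.radical_eq_sInf]
    refine le_sInf fun P hP => ?_
    obtain ⟨hle, hPp⟩ := hP
    have hIP : I ≤ P := le_sup_left.trans hle
    haveI : (P.map (Ideal.Quotient.mk I)).IsPrime := Ideal.isPrime_map_quotientMk_of_isPrime hIP
    have h1 : Ideal.span (s : Set (R ⧸ I)) ≤ P.map (Ideal.Quotient.mk I) :=
      hspan ▸ Ideal.map_mono (le_sup_right.trans hle)
    have h2 := hs.2 ⟨inferInstance, h1⟩ (IsLocalRing.le_maximalIdeal (Ideal.IsPrime.ne_top inferInstance))
    intro z hz
    have hz' : Ideal.Quotient.mk I z ∈ maximalIdeal (R ⧸ I) := fun hu => by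
      obtain ⟨w, hw⟩ := hu.exists_right_inv
      obtain ⟨w, rfl⟩ := Ideal.Quotient.mk_surjective w
      rw [← map_mul, ← map_one (Ideal.Quotient.mk I), Ideal.Quotient.eq] at hw
      refine (maximalIdeal.isMaximal R).ne_top ((Ideal.eq_top_iff_one _).2 ?_)
      simpa using (maximalIdeal R).sub_mem (Ideal.mul_mem_right w _ hz) (hIm hw)
    have h3 := h2 hz'
    rwa [← Ideal.mem_comap, Ideal.comap_map_of_surjective _ Ideal.Quotient.mk_surjective,
      ← RingHom.ker_eq_comap_bot, Ideal.mk_ker, sup_eq_left.2 hIP] at h3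
  set C := I ⊔ Ideal.span (Set.range g)
  have hfl : Module.length R (R ⧸ C) ≠ ⊤ := by
    refine (GrothLib.FiniteLengthSupp.length_lt_top ?_).ne
    rw [Module.supportDim_quotient_eq_ringKrullDim]
    exact Ring.krullDimLE_iff.1 (Ring.KrullDimLE.mk₀ fun q hq => by
      haveI := hq
      have hq' : maximalIdeal R ≤ q.comap (Ideal.Quotient.mk C) := hrad₀.trans
        ((Ideal.IsPrime.radical_le_iff inferInstance).2 fun c hc => by
          rw [Ideal.mem_comap, Ideal.Quotient.eq_zero_iff_mem.2 hc]; exact q.zero_mem)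
      have : (q.comap (Ideal.Quotient.mk C)).IsMaximal :=
        (maximalIdeal.isMaximal R).eq_of_le (Ideal.IsPrime.ne_top inferInstance) hq' ▸ maximalIdeal.isMaximal R
      rw [← Ideal.map_comap_of_surjective _ Ideal.Quotient.mk_surjective q]
      exact Ideal.IsMaximal.map_of_surjective_of_ker_le Ideal.Quotient.mk_surjective
        (fun c hc => by rw [Ideal.mem_comap, RingHom.mem_ker.1 hc]; exact q.zero_mem))
  obtain ⟨L, hL⟩ := ENat.ne_top_iff_exists.1 hfl
  suffices ∀ k : ℕ, ∀ f : R, f ≠ 0 → f ∈ J → Ideal.span {f} ⊔ Ideal.span (Set.range g) = C →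
      L - (Ideal.span {f}).minimalPrimes.ncard ≤ k → ∃ f ∈ J, f ≠ 0 ∧ IsReduced (R ⧸ Ideal.span {f}) from
    this _ f₀ hf₀ hf₀J rfl le_rfl
  intro k
  induction k using Nat.strong_induction_on with
  | _ k ih =>
    intro f hf hfJ hfC hk
    by_cases hred : IsReduced (R ⧸ Ideal.span {f})
    · exact ⟨f, hfJ, hf, hred⟩
    obtain ⟨f', hf', hf'J, hf'm, hC', hss⟩ := exists_more_components hd (by omega) g hgm (by omega) hJ hf hfJ
      (hJm hfJ) (hfC ▸ hrad₀) hred
    have hlt := Set.ncard_lt_ncard hss (Ideal.finite_minimalPrimes_of_isNoetherianRing R _)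
    have hle := ncard_min_le hc hd rfl g hgm hf' hf'm (by rw [hC', hfC]; exact hrad₀)
    rw [hC', hfC, ← hL] at hle
    have hle' : (Ideal.span {f'}).minimalPrimes.ncard ≤ L := by exact_mod_cast hle
    exact ih (L - (Ideal.span {f'}).minimalPrimes.ncard) (by omega) f' hf' hf'J (hC'.trans hfC) le_rfl

end GrothLib.Bertini16
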