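import Groth.Agent.Lib.HypersurfaceSmooth
import Mathlib

/-!
# A section of a smooth affine scheme by a function with nonvanishing differential
-/

set_option autoImplicit false
set_option maxHeartbeats 1000000

universe u

open TensorProduct CategoryTheory AlgebraicGeometry

namespace GrothLib.Bertini16

variable {k B : Type u} [CommRing k] [CommRing B] [Algebra k B]

/-- Rank of the differentials of the section. -/
theorem rankAtStalk_kaehler_quotient [Algebra.Smooth k B] (h : B) (d : ℕ)
    (b : Module.Basis (Fin d) B Ω[B⁄k]) (φ : Ω[B⁄k] →ₗ[B] B)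
    (hφ : φ (KaehlerDifferential.D k B h) = 1) [Algebra.Smooth k (B ⧸ Ideal.span {h})]
    (p : PrimeSpectrum (B ⧸ Ideal.span {h})) :
    Module.rankAtStalk (R := B ⧸ Ideal.span {h}) Ω[(B ⧸ Ideal.span {h})⁄k] p + 1 = d := by
  classical
  haveI : Module.Free B Ω[B⁄k] := Module.Free.of_basis b
  haveI : Module.Finite B Ω[B⁄k] := Module.Finite.of_basis b
  haveI : Nontrivial (B ⧸ Ideal.span {h}) := (⟨p⟩ : Nonempty (PrimeSpectrum (B ⧸ Ideal.span {h}))).elim
    fun q => Ideal.Quotient.nontrivial_iff.2 fun e => q.2.ne_top (top_unique fun x _ => by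
      obtain ⟨x, rfl⟩ := Ideal.Quotient.mk_surjective x
      rw [Ideal.Quotient.eq_zero_iff_mem.2 (e ▸ Submodule.mem_top : x ∈ Ideal.span {h})]
      exact zero_mem _)
  haveI : Nontrivial B := (Ideal.Quotient.mk (Ideal.span {h})).domain_nontrivial
  let C := B ⧸ Ideal.span {h}
  let μ := KaehlerDifferential.mapBaseChange k B C
  have hμ : Function.Surjective μ := KaehlerDifferential.mapBaseChange_surjective k B C Ideal.Quotient.mk_surjective
  let ψ : C ⊗[B] Ω[B⁄k] →ₗ[C] C := (TensorProduct.AlgebraTensorModule.rid B C C).toLinearMap.comp (φ.baseChange C)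
  let v : C ⊗[B] Ω[B⁄k] := 1 ⊗ₜ KaehlerDifferential.D k B h
  have hψv : ψ v = 1 := by simp [ψ, v, hφ]
  have hμv : μ v = 0 := by
    simp only [μ, v, KaehlerDifferential.mapBaseChange_tmul, one_smul, KaehlerDifferential.map_D]
    rw [show algebraMap B C h = 0 from Ideal.Quotient.eq_zero_iff_mem.2 (Ideal.mem_span_singleton_self h), map_zero]
  have hker : ∀ z, μ z = 0 → ∃ c : C, z = c • v := fun z hz => by
    obtain ⟨x, rfl⟩ := ((KaehlerDifferential.exact_kerCotangentToTensor_mapBaseChange k B C
      Ideal.Quotient.mk_surjective) z).1 hz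
    obtain ⟨⟨y, hy⟩, rfl⟩ := Ideal.toCotangent_surjective _ x
    have hy' : y ∈ Ideal.span {h} := (GrothLib.HypersurfaceSmooth.mem_ker_iff h y).1 hy
    obtain ⟨a, rfl⟩ := Ideal.mem_span_singleton'.1 hy'
    refine ⟨algebraMap B C a, ?_⟩
    rw [KaehlerDifferential.kerCotangentToTensor_toCotangent, algebraMap_smul, Derivation.leibniz,
      TensorProduct.tmul_add, TensorProduct.tmul_smul, TensorProduct.tmul_smul]
    suffices hh : (h : B) • ((1 : C) ⊗ₜ[B] KaehlerDifferential.D k B a) = 0 by rw [hh, add_zero]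
    rw [TensorProduct.smul_tmul', Algebra.smul_def, mul_one,
      show algebraMap B C h = 0 from Ideal.Quotient.eq_zero_iff_mem.2 (Ideal.mem_span_singleton_self h),
      TensorProduct.zero_tmul]
  let e : C ⊗[B] Ω[B⁄k] ≃ₗ[C] C × Ω[C⁄k] := LinearEquiv.ofBijective (ψ.prod μ) (by
    refine ⟨(injective_iff_map_eq_zero _).2 fun z hz => ?_, fun ⟨c, w⟩ => ?_⟩
    · obtain ⟨h1, h2⟩ := Prod.mk.injEq .. ▸ hz
      obtain ⟨c, rfl⟩ := hker z h2
      change ψ (c • v) = 0 at h1
      rw [map_smul, hψv, smul_eq_mul, mul_one] at h1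
      rw [h1, zero_smul]
    · obtain ⟨z, rfl⟩ := hμ w
      refine ⟨z + (c - ψ z) • v, Prod.ext ?_ ?_⟩
      · show ψ (z + (c - ψ z) • v) = c
        rw [map_add, map_smul, hψv, smul_eq_mul, mul_one]; ring
      · show μ (z + (c - ψ z) • v) = μ z
        rw [map_add, map_smul, hμv, smul_zero, add_zero])
  haveI : Module.Projective C Ω[C⁄k] := inferInstance
  haveI : Module.Finite C Ω[C⁄k] := inferInstance
  have h1 := congrFun (Module.rankAtStalk_eq_of_equiv e) p
  rw [Module.rankAtStalk_baseChange, Module.rankAtStalk_prod] at h1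
  simp only [Pi.add_apply, Module.rankAtStalk_self, Pi.one_apply, Module.rankAtStalk_eq_finrank_of_free,
    Pi.natCast_apply, Module.finrank_eq_card_basis b, Fintype.card_fin] at h1
  simpa [add_comm] using h1.symm

/-- A smooth algebra whose differentials have constant rank is smooth of that relative dimension. -/
theorem smoothOfRelativeDimension_of_rank (C : Type u) [CommRing C] [Algebra k C] [Algebra.Smooth k C] (r : ℕ)
    (hr : ∀ p : PrimeSpectrum C, Module.rankAtStalk (R := C) Ω[C⁄k] p = r) :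
    SmoothOfRelativeDimension r (Spec.map (CommRingCat.ofHom (algebraMap k C))) := by
  classical
  obtain ⟨s, hs, hstd⟩ := Algebra.Smooth.exists_span_eq_top_isStandardSmooth k C
  refine HasRingHomProperty.Spec_iff.mpr ?_
  refine ⟨{x ∈ s | ¬ IsNilpotent x}, ?_, fun g hg => ?_⟩
  · by_contra hne
    obtain ⟨m, hm, hle⟩ := Ideal.exists_le_maximal _ hne
    have : Ideal.span s ≤ m := Ideal.span_le.2 fun x hx => by
      by_cases hn : IsNilpotent x
      · exact (Ideal.IsPrime.isRadical (hm.isPrime) : m.IsRadical) (by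
          obtain ⟨N, hN⟩ := hn; exact ⟨N, hN ▸ m.zero_mem⟩)
      · exact hle (Ideal.subset_span ⟨hx, hn⟩)
    exact hm.ne_top (top_unique (hs ▸ this))
  obtain ⟨hgs, hgn⟩ := hg
  let Cg := Localization.Away g
  haveI : Algebra.IsStandardSmooth k Cg := hstd g hgs
  haveI : Nontrivial Cg := by
    rw [← not_subsingleton_iff_nontrivial, IsLocalization.subsingleton_iff (S := Cg) (M := Submonoid.powers g)]
    rintro ⟨N, hN⟩
    exact hgn ⟨N, hN⟩
  obtain ⟨_, _, _, _, ⟨Pr⟩⟩ := (hstd g hgs).out
  haveI : Algebra.IsStandardSmoothOfRelativeDimension Pr.dimension k Cg := ⟨_, _, _, ‹_›, Pr, rfl⟩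
  have hrk := Algebra.IsStandardSmoothOfRelativeDimension.rank_kaehlerDifferential (R := k) (S := Cg) Pr.dimension
  obtain ⟨q⟩ : Nonempty (PrimeSpectrum Cg) := inferInstance
  haveI : Algebra.FormallyEtale C Cg := Algebra.FormallyEtale.of_isLocalization (.powers g)
  have h1 : Module.rankAtStalk (R := Cg) (KaehlerDifferential k Cg) q = r := by
    rw [← Module.rankAtStalk_eq_of_equiv (KaehlerDifferential.tensorKaehlerEquivOfFormallyEtale k C Cg),
      Module.rankAtStalk_baseChange, hr]
  have hdim : Pr.dimension = r := by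
    rw [← h1, Module.rankAtStalk_eq_finrank_of_free, Module.finrank, hrk]
    simp
  have h2 : Algebra.IsStandardSmoothOfRelativeDimension r k Cg := hdim ▸ ‹_›
  rw [CommRingCat.hom_ofHom, ← IsScalarTower.algebraMap_eq k C Cg]
  exact (RingHom.isStandardSmoothOfRelativeDimension_algebraMap r).mpr h2

/-- A section by a function with nonvanishing differential is smooth of one dimension less. -/
theorem smoothOfRelativeDimension_section [IsNoetherianRing B] [Algebra.Smooth k B] (h : B) (d : ℕ)
    (b : Module.Basis (Fin d) B Ω[B⁄k]) (φ : Ω[B⁄k] →ₗ[B] B) (hφ : φ (KaehlerDifferential.D k B h) = 1) :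
    SmoothOfRelativeDimension (d - 1)
      (Spec.map (CommRingCat.ofHom (algebraMap k (B ⧸ Ideal.span {h})))) := by
  haveI : Algebra.FormallySmooth k (B ⧸ Ideal.span {h}) :=
    GrothLib.HypersurfaceSmooth.formallySmooth_quotient h φ (by rw [hφ, sub_self]; exact Ideal.zero_mem _)
  haveI : Algebra.FinitePresentation k (B ⧸ Ideal.span {h}) :=
    Algebra.FinitePresentation.quotient ⟨{h}, by simp⟩
  haveI : Algebra.Smooth k (B ⧸ Ideal.span {h}) := {}
  exact smoothOfRelativeDimension_of_rank _ _ fun p => by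
    have := rankAtStalk_kaehler_quotient h d b φ hφ p
    omega

end GrothLib.Bertini16
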